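/-
Subgroups given by a table of left multiplication by generators.

* `exists_tbl_mul` : products of tabled elements are tabled, compatibly for two representations
* `tblGroup`, `card_tblGroup`, `nonempty_equiv` : the subgroup and the isomorphism
-/
import Mathlib

set_option autoImplicit false

namespace Cfsg.Agent.SylowEight

variable {M M' : Type*} [Group M] [Group M'] {N k : ℕ} [NeZero N]

/-- A faithful tabled representation. -/
structure Rep (M : Type*) [Group M] (μ : Fin k → Fin N → Fin N) (g : Fin k → Fin N) where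
  W : Fin N → M
  zero : W 0 = 1
  step : ∀ i n, W (g i) * W n = W (μ i n)
  inj : Function.Injective W
  inv : ∀ n, ∃ n', W n' = (W n)⁻¹

variable {μ : Fin k → Fin N → Fin N} {g : Fin k → Fin N}

/-- The indices are reached from `0` by the generators. -/
def Reach (μ : Fin k → Fin N → Fin N) : Prop :=
  ∀ n : Fin N, n ≠ 0 → ∃ i n', n'.val < n.val ∧ μ i n' = n

theorem exists_tbl_mul (hr : Reach μ) (R : Rep M μ g) (R' : Rep M' μ g) (a b : Fin N) :
    ∃ c, R.W a * R.W b = R.W c ∧ R'.W a * R'.W b = R'.W c := by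
  suffices H : ∀ (t : ℕ) (a : Fin N), a.val = t →
      ∃ c, R.W a * R.W b = R.W c ∧ R'.W a * R'.W b = R'.W c from H _ a rfl
  intro t
  induction t using Nat.strong_induction_on with
  | _ t ih =>
    intro a ha
    by_cases h0 : a = 0
    · exact ⟨b, by rw [h0, R.zero, one_mul], by rw [h0, R'.zero, one_mul]⟩
    obtain ⟨i, n', hlt, he⟩ := hr a h0
    obtain ⟨c, hc, hc'⟩ := ih n'.val (ha ▸ hlt) n' rfl
    exact ⟨μ i c, by rw [← he, ← R.step, mul_assoc, hc, R.step],
      by rw [← he, ← R'.step, mul_assoc, hc', R'.step]⟩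

/-- The tabled subgroup. -/
def tblGroup (hr : Reach μ) (R : Rep M μ g) : Subgroup M where
  carrier := Set.range R.W
  one_mem' := ⟨0, R.zero⟩
  mul_mem' := by
    rintro _ _ ⟨a, rfl⟩ ⟨b, rfl⟩
    obtain ⟨c, hc, -⟩ := exists_tbl_mul hr R R a b
    exact ⟨c, hc.symm⟩
  inv_mem' := by
    rintro _ ⟨a, rfl⟩
    exact R.inv a

theorem card_tblGroup (hr : Reach μ) (R : Rep M μ g) : Nat.card (tblGroup hr R) = N := by
  show Nat.card (Set.range R.W) = N
  rw [Nat.card_range_of_injective R.inj, Nat.card_fin]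

theorem nonempty_equiv (hr : Reach μ) (R : Rep M μ g) (R' : Rep M' μ g) :
    Nonempty (tblGroup hr R ≃* tblGroup hr R') := by
  let e : Fin N ≃ tblGroup hr R := Equiv.ofInjective R.W R.inj
  let e' : Fin N ≃ tblGroup hr R' := Equiv.ofInjective R'.W R'.inj
  refine ⟨MulEquiv.mk' (e.symm.trans e') fun x y => ?_⟩
  obtain ⟨a, rfl⟩ := e.surjective x
  obtain ⟨b, rfl⟩ := e.surjective y
  obtain ⟨c, hc, hc'⟩ := exists_tbl_mul hr R R' a b
  have hprod : e a * e b = e c := Subtype.ext hc
  rw [hprod]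
  simp only [Equiv.trans_apply, Equiv.symm_apply_apply]
  exact Subtype.ext hc'.symm

/-- A tabled subgroup of full `p`-part is isomorphic to every Sylow `p`-subgroup. -/
theorem nonempty_sylow_equiv [Finite M] {p : ℕ} [Fact p.Prime] (hr : Reach μ) (R : Rep M μ g)
    (hN : N = p ^ (Nat.card M).factorization p) (P : Sylow p M) :
    Nonempty (tblGroup hr R ≃* (P : Subgroup M)) :=
  ⟨Sylow.equiv (Sylow.ofCard (tblGroup hr R) (by rw [card_tblGroup hr R, hN])) P⟩

end Cfsg.Agent.SylowEight
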