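/-
Kernel checks of the tables in `Data`.

* `pN`, `oN`, `sN` : the entries of the tables
* `m`, `inv`, `sInd` : index operations
* `*_mul`, `*_inj`, `symp_form` : the checks
-/
import Cfsg.Agent.Lib.SylowEight.Data

set_option autoImplicit false

namespace Cfsg.Agent.SylowEight

/-- The permutation with index `n`. -/
def pF (n : Fin 128) (x : Fin 8) : Fin 8 := Fin.ofNat 8 (permTbl.getD n.val 0 / 8 ^ x.val)

/-- Its inverse. -/
def pB (n : Fin 128) (x : Fin 8) : Fin 8 := Fin.ofNat 8 (permInvTbl.getD n.val 0 / 8 ^ x.val)

/-- Index of a generator times an element. -/
def m (i : Fin 7) (n : Fin 128) : Fin 128 := Fin.ofNat 128 (mulTbl.getD (128 * i.val + n.val) 0)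

/-- Index of the inverse. -/
def inv (n : Fin 128) : Fin 128 := Fin.ofNat 128 (invTbl.getD n.val 0)

/-- Index of a generator. -/
def gInd (i : Fin 7) : Fin 128 := Fin.ofNat 128 (2 ^ i.val)

/-- Orthogonal matrix with index `n`. -/
def oN (n : Fin 128) : Matrix (Fin 6) (Fin 6) (ZMod 2) :=
  Matrix.of fun i j => ((orthTbl.getD n.val 0 / 2 ^ (6 * i.val + j.val) : ℕ) : ZMod 2)

/-- Inclusion of the indices of the even part. -/
def e64 (n : Fin 64) : Fin 128 := Fin.castLE (by norm_num) n

/-- Index of a generator times an element, even part. -/
def m' (i : Fin 6) (n : Fin 64) : Fin 64 := Fin.ofNat 64 (mulTbl.getD (128 * i.val + n.val) 0)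

/-- Index of an even generator. -/
def gInd' (i : Fin 6) : Fin 64 := Fin.ofNat 64 (2 ^ i.val)

/-- Entries of the symplectic matrices. -/
def sE (n : Fin 64) (k : ℕ) : ZMod 3 := ((sympTbl.getD n.val 0 / 3 ^ k : ℕ) : ZMod 3)

/-- Symplectic matrix with index `n`. -/
def sN (n : Fin 64) : Matrix (Fin 2 ⊕ Fin 2) (Fin 2 ⊕ Fin 2) (ZMod 3) :=
  Matrix.of fun i j =>
    sE n (4 * (Sum.elim (fun a => a.val) (fun a => 2 + a.val) i) +
      Sum.elim (fun a => a.val) (fun a => 2 + a.val) j)

/-- The alternating form. -/
def altJ : Matrix (Fin 2 ⊕ Fin 2) (Fin 2 ⊕ Fin 2) (ZMod 3) :=
  Matrix.fromBlocks 0 (-1) 1 0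

/-- `permTbl` in base `2 ^ 24`. -/
private def pPack : ℕ := 5680564201560542322628940576341711230764658952046189450636947524655537104654385016716352563738949474931101253448192904391129575708230279709846341479011064749198962589079494433590741397085210119661194572331037473387198941059938116978689899945395035607412927223208665848919520143428341433442017141674089394419976913271620425922195025876180222681137713635262684855513748448405036791578195444418909838666074226390632606581036588063380551964823225009759904779184360467546353401051217372132287021091817511971215499830119388190497870608574495120459214539009829050900569712448187260849430936203331275906677619891728948238837592702976269193026403180152601222632474893132283572722763249162435794302495516279045572481987237809215685901172567956756591542230730429237010497906537342177732296443427907662516653677579157453897141251418946556662319059074910509867664339051495954345297966327003683374163639478011704693605496137787162494682760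

/-- `mulTbl` in base `2 ^ 8`. -/
def mPack : ℕ := 9042665262033706576081480243251395273400446077933063167636848760041669983908479228807380684245323220475985570227200460908684384808267589144981618877219289096019119776387424498627755448715733810291584803541975462147082647442202117356885985629089976677597001936236544012861552160598004098636500190518023178565592811473100973458086724920525782495751276277627551539029649343480256173204809795745109921218932402808755744626794835609850951971668943035746517078440073737384516953825067897528312446073042738697841728849917049595458838470596671159795204566776274001803043206556123925097842032160003214429657285015578372660284233240314875635338361075000254119336017221045961375618217134558761771570888239062944933340266346413019997680216588080691844664784216852885581111655260826383466341467930785720016347094155492309943359964239435392772919321959101786047718670207527706678208846577303045197729240122751848638454397121130172821552952428167924258458993541761116964547619683860421328902065165674850795369307267890848189667503527548542839807521787876606367457208104026044266658257424632484227130285807613727174184523666907222112701748706225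53144887311492289155863325609398008216389413958071113560776306385836415372200084275336133261742096631584476746866947079189685790414540052989848160711076080372246377765917566686320280953015295548323321535188060963306899946970738297093603953189594018373873454811000540566600793521638195910176871643784830883440926960918076031078663671146050352245170275629785404721057496438647021366887297317185064186009461241997223500190541443500386461504611737891814462129754831570056306309059329718030272032969558051493713209405587262867724086850006140168576644155779374135482138427181821114787531361454947619701712751387563697417639811611762029393986041412766383375663733772971634306360962970463641193830617911290173922608093476057683226090206997909747434134035395648448070232067281093749632269694530230757229958047876702093453165537822796217695271277850535463748294432986855635490454739337274456055695947981723413682546856693883987376403253832472911140632737249864971256627187308763571272767381190058585828875683371671942649296665779930071041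

/-- `sympTbl` in base `2 ^ 32`. -/
private def sPack : ℕ := 46664539524011577882405408680951002274569424299973845858106847703567804152940790565757132881139172383318635352905098986345732985518984334486304366931510128116586080872534600211599025891999963157558096252872558688815977805783699746210259695224768352392589719678873401075820828993387739942332089372082785891937066588847497349249184839654813955041351278725725183738931282871645480686506214718545486355690005729987072725669560525417698682579055607364370450300065178374176564954997677307083156926678795590235003943597271809937559207574262172848509924730250945249728917281860994197834746877401813282297605694226492545544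

/-- Packed form of `pF`. -/
private def pF' (n : Fin 128) (x : Fin 8) : Fin 8 := Fin.ofNat 8 (pPack / 2 ^ (24 * n.val) % 2 ^ 24 / 8 ^ x.val)

/-- Packed form of `m`. -/
def mP (i : Fin 7) (n : Fin 128) : Fin 128 := Fin.ofNat 128 (mPack / 2 ^ (8 * (128 * i.val + n.val)) % 2 ^ 8)

/-- Packed form of `m'`. -/
private def mP' (i : Fin 6) (n : Fin 64) : Fin 64 := Fin.ofNat 64 (mPack / 2 ^ (8 * (128 * i.val + n.val)) % 2 ^ 8)

/-- Packed form of `sN`. -/
private def sP (n : Fin 64) : Matrix (Fin 2 ⊕ Fin 2) (Fin 2 ⊕ Fin 2) (ZMod 3) :=
  Matrix.of fun i j =>
    ((sPack / 2 ^ (32 * n.val) % 2 ^ 32 /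
      3 ^ (4 * (Sum.elim (fun a => a.val) (fun a => 2 + a.val) i) +
        Sum.elim (fun a => a.val) (fun a => 2 + a.val) j) : ℕ) : ZMod 3)

private theorem pF_eq : ∀ n x, pF n x = pF' n x := by decide +kernel

private theorem mulTbl_eq :
    mulTbl.toList = (List.range 896).map (fun k => mPack / 2 ^ (8 * k) % 2 ^ 8) := by
  decide +kernel

private theorem mulTbl_getD (k : ℕ) (hk : k < 896) :
    mulTbl.getD k 0 = mPack / 2 ^ (8 * k) % 2 ^ 8 := by
  rw [Array.getD_eq_getD_getElem?, ← Array.getElem?_toList, mulTbl_eq, List.getElem?_map,
    List.getElem?_range hk, Option.map_some, Option.getD_some]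

theorem m_eq (i : Fin 7) (n : Fin 128) : m i n = mP i n := by
  rw [m, mP, mulTbl_getD _ (by omega)]

private theorem m'_eq (i : Fin 6) (n : Fin 64) : m' i n = mP' i n := by
  rw [m', mP', mulTbl_getD _ (by omega)]

private theorem sN_eq : ∀ n, sN n = sP n := by decide +kernel

theorem reach : ∀ n : Fin 128, n ≠ 0 → ∃ i : Fin 7, m i (n - gInd i) = n ∧ (n - gInd i).val < n.val := by
  decide +kernel

theorem reach' : ∀ n : Fin 64, n ≠ 0 →
    ∃ i : Fin 6, m' i (n - gInd' i) = n ∧ (n - gInd' i).val < n.val := by
  decide +kernel

theorem perm_bij : ∀ n x, pB n (pF n x) = x ∧ pF n (pB n x) = x := by decide +kernel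

private theorem perm_mul' : ∀ i n x, pF' (gInd i) (pF' n x) = pF' (mP i n) x := by decide +kernel

theorem perm_mul : ∀ i n x, pF (gInd i) (pF n x) = pF (m i n) x := by
  intro i n x
  rw [pF_eq, pF_eq, pF_eq, m_eq]
  exact perm_mul' i n x

theorem perm_zero : ∀ x, pF 0 x = x := by decide +kernel

theorem perm_inv : ∀ n x, pF (inv n) x = pB n x := by decide +kernel

theorem perm_inj : permTbl.toList.Nodup ∧ permTbl.size = 128 ∧
    ∀ n : Fin 128, (∑ x : Fin 8, (pF n x).val * 8 ^ x.val) = permTbl.getD n.val 0 := by
  decide +kernel

private theorem m_e64' : ∀ i n, e64 (mP' i n) = mP (Fin.castLE (by norm_num) i) (e64 n) := by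
  decide +kernel

theorem m_e64 : ∀ i n, e64 (m' i n) = m (Fin.castLE (by norm_num) i) (e64 n) := by
  intro i n
  rw [m'_eq, m_eq]
  exact m_e64' i n

theorem g_e64 : ∀ i, e64 (gInd' i) = gInd (Fin.castLE (by norm_num) i) := by decide +kernel

theorem symp_zero : sN 0 = 1 := by decide +kernel

theorem symp_form : ∀ n, sN n * altJ * (sN n).transpose = altJ := by decide +kernel

private theorem symp_mul' : ∀ i n, sP (gInd' i) * sP n = sP (mP' i n) ∨ sP (gInd' i) * sP n = -sP (mP' i n) := by
  decide +kernel

theorem symp_mul : ∀ i n, sN (gInd' i) * sN n = sN (m' i n) ∨ sN (gInd' i) * sN n = -sN (m' i n) := by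
  intro i n
  rw [sN_eq, sN_eq, sN_eq, m'_eq]
  exact symp_mul' i n

/-- A matrix over `ZMod 3` as a number. -/
def enc (M : Matrix (Fin 2 ⊕ Fin 2) (Fin 2 ⊕ Fin 2) (ZMod 3)) : ℕ :=
  ∑ i : Fin 2 ⊕ Fin 2, ∑ j : Fin 2 ⊕ Fin 2,
    (M i j).val * 3 ^ (4 * (Sum.elim (fun a => a.val) (fun a => 2 + a.val) i) +
      Sum.elim (fun a => a.val) (fun a => 2 + a.val) j)

theorem symp_inj : (List.ofFn (fun n => enc (sN n)) ++ List.ofFn (fun n => enc (-sN n))).Nodup := by
  decide +kernel

end Cfsg.Agent.SylowEight
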